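import Groth.Agent.Lib.AmpleNZ9.Nat
import Groth.Agent.Lib.CountD9.Basic
import Groth.Agent.Lib.CurveCM.Mul
import Groth.Agent.Lib.PnKoszul9.TwistD
import Groth.Agent.Lib.Ample18.Sections
import Groth.Agent.Lib.Ample18.Ample
import Groth.Agent.Lib.TensorMod.QCohTensor

/-! Maps into objects supported off `X_s` are killed by a power of `s`. -/

set_option autoImplicit false
set_option linter.style.haveILetI false
set_option linter.unusedSectionVars false
set_option backward.isDefEq.respectTransparency false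
set_option backward.isDefEq.respectTransparency.types false
set_option maxHeartbeats 800000

universe u

open CategoryTheory CategoryTheory.Limits AlgebraicGeometry Pretriangulated Opposite ZeroObject

attribute [local instance] HasDerivedCategory.standard

namespace Groth.Agent.AmpleNZ9

open Groth.Agent.M2 (tsec IsGenerator res)

variable {X : Scheme.{u}} (M : X.Modules) (s : Coh.structureModule X ⟶ M)

/-- Multiplication by a section, as a natural transformation. -/
noncomputable def mulN : 𝟭 X.Modules ⟶ DCoh.tensorRightMod M where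
  app F := CurveCM.mulR F (Amp.gval s)
  naturality F G φ := by
    refine Scheme.Modules.hom_ext _ _ fun U => ?_
    ext y
    have e : (DCoh.tensorRightMod M).map φ = M2.tensorMap φ (𝟙 M) :=
      VB17.whisker_eq_tensorMap φ M
    rw [e]
    change (CurveCM.mulR G (Amp.gval s)).app U (φ.app U y) =
      (M2.tensorMap φ (𝟙 M)).app U ((CurveCM.mulR F (Amp.gval s)).app U y)
    rw [CurveCM.mulR_app, CurveCM.mulR_app, M2.tensorMap_tsec]
    rfl

variable [PreservesFiniteLimits (DCoh.tensorRightMod M)]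

/-- Multiplication by a section on the derived category. -/
noncomputable def η : 𝟭 (DCoh.D X) ⟶ PnKoszul9.twD M :=
  unitD (DCoh.tensorRightMod M) (mulN M s)

/-- The cohomology of the twist. -/
noncomputable def hdTw (E : DCoh.D X) (i : ℤ) :
    DCoh.HD ((PnKoszul9.twD M).obj E) i ≅ CohB1.tensorMod (DCoh.HD E i) M :=
  (TwistBC9.hdMapIso (DCoh.tensorRightMod M) i).app E

theorem η_hdTw (E : DCoh.D X) (i : ℤ) :
    (DerivedCategory.homologyFunctor X.Modules i).map ((η M s).app E) ≫ (hdTw M E i).hom =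
      CurveCM.mulR (DCoh.HD E i) (Amp.gval s) :=
  unitD_homology (DCoh.tensorRightMod M) (mulN M s) i E

/-- Killed by a power of the section. -/
inductive Killed (A : DCoh.D X) : ∀ {E : DCoh.D X}, (A ⟶ E) → Prop
  | zero {E : DCoh.D X} : Killed A (0 : A ⟶ E)
  | step {E : DCoh.D X} (f : A ⟶ E) : Killed A (f ≫ (η M s).app E) → Killed A f

theorem Killed.pre {A B : DCoh.D X} (g : B ⟶ A) {E : DCoh.D X} {f : A ⟶ E} (h : Killed M s A f) :
    Killed M s B (g ≫ f) := by
  induction h with
  | zero => rw [comp_zero]; exact .zero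
  | step f _ ih => exact .step _ (by rwa [Category.assoc])

/-- Quasi-coherent cohomology vanishing on `X_s`. -/
def Off (E : DCoh.D X) : Prop :=
  DCoh.IsQCohD E ∧ ∀ i, IsZero ((DCoh.HD E i).restrict (CohB1.genLocus M s).ι)

variable {M s}

theorem subsingleton_stalk_tensor (F G : X.Modules) (x : X)
    (h : Subsingleton (F.presheaf.stalk x : Type u)) :
    Subsingleton ((CohB1.tensorMod F G).presheaf.stalk x : Type u) :=
  haveI : Subsingleton (TensorProduct (X.presheaf.stalk x) (F.presheaf.stalk x : Type u) (G.presheaf.stalk x : Type u)) :=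
    subsingleton_of_forall_eq 0 fun z => by
      induction z using TensorProduct.induction_on with
      | zero => rfl
      | tmul a b => rw [Subsingleton.elim a 0, TensorProduct.zero_tmul]
      | add a b ha hb => rw [ha, hb, add_zero]
  (M2.stalkEquiv F G x).toEquiv.subsingleton

theorem offAux1 (hM : PicF.IsInvertible M) {E : DCoh.D X} (h : Off M s E) (i : ℤ) :
    Coh.IsQCoh (CohB1.tensorMod (DCoh.HD E i) M) := M2.isQCoh_tensor (h.1 i) (Twist.isQCoh_of_isInvertible hM)

theorem offAux2 {E : DCoh.D X} (i : ℤ) (h : Coh.IsQCoh (CohB1.tensorMod (DCoh.HD E i) M)) :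
    Coh.IsQCoh (DCoh.HD ((PnKoszul9.twD M).obj E) i) := (SheafOfModules.isQuasicoherent X.ringCatSheaf).prop_of_iso (hdTw M E i).symm h

theorem offAux3 {E : DCoh.D X} (h : Off M s E) (i : ℤ) (z : (CohB1.genLocus M s : Scheme.{u})) :
    RHom.StalkZero ((CohB1.genLocus M s).ι z) (DCoh.HD E i) :=
    (RHom.stalkZero_restrict_iff _ z _).1 ((M1.stalkAb z).map_isZero (h.2 i))

theorem offAux4 (E : DCoh.D X) (i : ℤ) (z : (CohB1.genLocus M s : Scheme.{u}))
   (h0 : RHom.StalkZero ((CohB1.genLocus M s).ι z) (DCoh.HD E i)) :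
   RHom.StalkZero z ((Scheme.Modules.restrictFunctor (CohB1.genLocus M s).ι).obj (CohB1.tensorMod (DCoh.HD E i) M)) :=
  (RHom.stalkZero_restrict_iff _ z _).2 (@AddCommGrpCat.isZero_of_subsingleton _
    (subsingleton_stalk_tensor (DCoh.HD E i) M _ (AddCommGrpCat.subsingleton_of_isZero h0)))

theorem offAux5 (E : DCoh.D X) (i : ℤ) (h : IsZero ((Scheme.Modules.restrictFunctor (CohB1.genLocus M s).ι).obj (CohB1.tensorMod (DCoh.HD E i) M))) :
  IsZero ((DCoh.HD ((PnKoszul9.twD M).obj E) i).restrict (CohB1.genLocus M s).ι) :=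
  h.of_iso ((Scheme.Modules.restrictFunctor (CohB1.genLocus M s).ι).mapIso (hdTw M E i))

theorem off_twD (hM : PicF.IsInvertible M) {E : DCoh.D X} (h : Off M s E) :
    Off M s ((PnKoszul9.twD M).obj E) :=
  And.intro (fun i => offAux2 i (offAux1 hM h i)) (fun i => offAux5 E i
    (DPerf.isZero_of_stalks fun z => AddCommGrpCat.subsingleton_of_isZero (offAux4 E i z (offAux3 h i z))))

variable (M s)

/-- Objects all of whose maps to objects off `X_s` are killed. -/
def KP (A : DCoh.D X) : Prop := ∀ (i : ℤ) (E : DCoh.D X), Off M s E → ∀ f : A⟦i⟧ ⟶ E, Killed M s _ f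

variable {M s}

theorem kp_iso {A B : DCoh.D X} (e : A ≅ B) (h : KP M s A) : KP M s B := fun i E hE f => by
  have := (h i E hE ((shiftFunctor _ i).map e.hom ≫ f)).pre M s ((shiftFunctor _ i).map e.inv)
  rwa [← Category.assoc, ← Functor.map_comp, e.inv_hom_id, CategoryTheory.Functor.map_id, Category.id_comp] at this

theorem killed_ext (hM : PicF.IsInvertible M) (T : Triangle (DCoh.D X)) (hT : T ∈ distTriang _)
    (h₃ : ∀ E, Off M s E → ∀ f : T.obj₃ ⟶ E, Killed M s _ f) {E : DCoh.D X} (x : T.obj₁ ⟶ E)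
    (hx : Killed M s _ x) : ∀ f : T.obj₂ ⟶ E, Off M s E → x = T.mor₁ ≫ f → Killed M s _ f := by
  induction hx with
  | zero =>
    intro f hE h
    obtain ⟨g, hg⟩ := Triangle.yoneda_exact₂ T hT f h.symm
    rw [hg]
    exact (h₃ _ hE g).pre M s _
  | step x _ ih =>
    intro f hE h
    exact .step _ (ih _ (off_twD hM hE) (by rw [h, Category.assoc]))

theorem kp_extClosed (hM : PicF.IsInvertible M) : DMV.ExtClosed (KP M s) where
  iso := kp_iso
  zero i E _ f := by
    rw [((shiftFunctor (DCoh.D X) i).map_isZero (isZero_zero _)).eq_of_src f 0]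
    exact .zero
  ext T hT h₁ h₃ i E hE f :=
    killed_ext hM _ (T.shift_distinguished hT i) (h₃ i) _ (h₁ i E hE _) f hE rfl

theorem kp_shift {A : DCoh.D X} (h : KP M s A) (n : ℤ) : KP M s (A⟦n⟧) := fun i E hE f => by
  let e : (A⟦n⟧)⟦i⟧ ≅ A⟦n + i⟧ := ((shiftFunctorAdd' (DCoh.D X) n i (n + i) rfl).app A).symm
  have := (h (n + i) E hE (e.inv ≫ f)).pre M s e.hom
  rwa [Iso.hom_inv_id_assoc] at this

/-- A class over an affine open is killed as soon as locally a power kills it. -/
theorem killed_affine_of_pow (hM : PicF.IsInvertible M) {W : X.Opens} (hW : IsAffineOpen W) (m : ℤ)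
    {ι : Type u} (V : ι → X.Opens) (hV : ∀ j, V j ≤ W) (hcov : W ≤ ⨆ j, V j)
    (g : ∀ j, Γ(M, V j)) (r : ∀ j, Γ(X, V j)) (hr : ∀ j, r j • g j = res M le_top (Amp.gval s)) :
    ∀ (k : ℕ) (E : DCoh.D X), Off M s E → ∀ f : (DerivedCategory.singleFunctor X.Modules m).obj ((DQC.gen X).obj W) ⟶ E,
      (∀ j, r j ^ k • res (DCoh.HD E m) (hV j) (DQC.genHom W _ (SiteRlim.θ f)) = 0) → Killed M s _ f := by
  intro k
  induction k with
  | zero =>
    intro E hE f h
    simp only [pow_zero, one_smul] at h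
    have hz : DQC.genHom W (DCoh.HD E m) (SiteRlim.θ f) = 0 :=
      M1.modules_eq_of_locally_eq _ W V hV hcov _ _ fun j => (h j).trans (map_zero _).symm
    have h0 : DQC.genHom W (DCoh.HD E m) 0 = 0 := by
      have := DQC.genHom_comp W (M := DCoh.HD E m) (SiteRlim.θ f) (0 : DCoh.HD E m ⟶ DCoh.HD E m)
      rw [comp_zero] at this
      exact this
    have hθ : SiteRlim.θ f = 0 := (DQC.genHom W (DCoh.HD E m)).injective (hz.trans h0.symm)
    have hf : f = 0 := (DQC.bijective_θ E hE.1 hW m).1 (by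
      rw [hθ]; simp [SiteRlim.θ])
    rw [hf]
    exact .zero
  | succ k ih =>
    intro E hE f h
    refine .step _ (ih _ (off_twD hM hE) _ fun j => ?_)
    have hH : DQC.genHom W _ (SiteRlim.θ f ≫ CurveCM.mulR (DCoh.HD E m) (Amp.gval s)) =
        (hdTw M E m).hom.app W (DQC.genHom W _ (SiteRlim.θ (f ≫ (η M s).app E))) := by
      rw [← DQC.genHom_comp, SiteRlim.θ_comp, Category.assoc]
      exact congrArg (fun φ => DQC.genHom W _ (SiteRlim.θ f ≫ φ)) (η_hdTw M s E m).symm
    rw [DQC.genHom_comp, CurveCM.mulR_app] at hH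
    have hi : Function.Injective ((hdTw M E m).hom.app (V j)) := fun a b hab => by
      have h' := congrArg (fun z => (hdTw M E m).inv.app (V j) z) hab
      simpa [← ConcreteCategory.comp_apply, ← Scheme.Modules.Hom.comp_app] using h'
    refine hi ?_
    rw [map_zero, Scheme.Modules.Hom.app_smul]
    have hm := M1.app_mres (hdTw M E m).hom (hV j) (DQC.genHom W _ (SiteRlim.θ (f ≫ (η M s).app E)))
    change r j ^ k • (hdTw M E m).hom.app (V j) (M1.mres _ (hV j) _) = 0
    rw [hm, ← hH]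
    change r j ^ k • res _ (hV j) (tsec (DCoh.HD E m) M _ (res M le_top (Amp.gval s))) = 0
    rw [M2.res_tsec, Amp.res_res, ← hr j, M2.tsec_smul_right, smul_smul, ← pow_succ, ← M2.tsec_smul_left, h j,
      Amp.tsec_zero_left]

theorem kp_gen_affine (hM : PicF.IsInvertible M) {W : X.Opens} (hW : IsAffineOpen W) (m : ℤ) :
    KP M s ((DerivedCategory.singleFunctor X.Modules m).obj ((DQC.gen X).obj W)) := fun i E hE f => by
  let e := ((DerivedCategory.singleFunctors X.Modules).shiftIso i (m - i) m (by omega)).app ((DQC.gen X).obj W)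
  suffices h : Killed M s _ (e.inv ≫ f) by
    have := h.pre M s e.hom
    rwa [Iso.hom_inv_id_assoc] at this
  have key : ∀ g : (DerivedCategory.singleFunctor X.Modules (m - i)).obj ((DQC.gen X).obj W) ⟶ E, Killed M s _ g := by
    intro g
    let z := DQC.genHom W _ (SiteRlim.θ g)
    choose U e a hxU hUW hU he ha heq using
      fun x : (W : Set X) => Amp.exists_local hM s (V := W) (x := x.1) x.2
    obtain ⟨T, hT⟩ := hW.isCompact.elim_finite_subcover (fun x => (U x : Set X)) (fun x => (U x).isOpen)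
      (fun x hx => Set.mem_iUnion.mpr ⟨⟨x, hx⟩, hxU ⟨x, hx⟩⟩)
    have hk : ∀ x, ∃ k : ℕ, a x ^ k • res (DCoh.HD E (m - i)) (hUW x) z = 0 := fun x => by
      haveI : Coh.IsQCoh (DCoh.HD E (m - i)) := hE.1 _
      refine M1.exists_pow_smul_eq_zero_affine _ (hU x) (a x) _ ?_
      have h1 : X.basicOpen (a x) ≤ CohB1.genLocus M s := (heq x).ge.trans inf_le_left
      exact @Subsingleton.elim _ (DMV.subsingleton_sections_of_isZero (hE.2 (m - i)) h1) _ _
    choose k hk using hk
    obtain ⟨K, hK⟩ : ∃ K, ∀ x ∈ T, k x ≤ K := ⟨T.sup k, fun x hx => Finset.le_sup hx⟩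
    refine killed_affine_of_pow hM hW (m - i) (ι := T) (fun x => U x.1) (fun x => hUW x.1) (fun y hy => ?_)
      (fun x => e x.1) (fun x => a x.1) (fun x => ha x.1) K E hE g fun x => ?_
    · obtain ⟨x, hx, hyx⟩ := Set.mem_iUnion₂.mp (hT hy)
      exact TopologicalSpace.Opens.mem_iSup.mpr ⟨⟨x, hx⟩, hyx⟩
    · rw [← Nat.sub_add_cancel (hK x.1 x.2), pow_add, mul_smul, hk, smul_zero]
  exact key _

variable [CompactSpace X] [QuasiSeparatedSpace X]

theorem kp_gen (hM : PicF.IsInvertible M) {W : X.Opens} (hW : IsCompact (W : Set X)) (m : ℤ) :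
    KP M s (DerivedCategory.Q.obj ((HomologicalComplex.single X.Modules (ComplexShape.up ℤ) m).obj
      ((DQC.gen X).obj W))) := by
  let sg : X.Modules ⥤ CochainComplex X.Modules ℤ := HomologicalComplex.single X.Modules (ComplexShape.up ℤ) m
  let P : X.Opens → Prop := fun S => KP M s (DerivedCategory.Q.obj (sg.obj ((DQC.gen X).obj S)))
  have hcl := kp_extClosed (s := s) hM
  have haff : ∀ S : X.Opens, IsAffineOpen S → P S := fun S hS =>
    hcl.iso ((DerivedCategory.singleFunctorIsoCompQ X.Modules m).app _) (kp_gen_affine hM hS m)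
  have glue : ∀ S V : X.Opens, P S → P V → P (S ⊓ V) → P (S ⊔ V) := fun S V hS hV hSV => by
    let Sc := DMV.relSC S V (Coh.structureModule X)
    have hSc : (Sc.map sg).ShortExact := (DMV.shortExact_relSC S V _).map_of_exact sg
    have h₁ : KP M s (DerivedCategory.Q.obj (sg.obj Sc.X₁)) :=
      hcl.iso (DerivedCategory.Q.mapIso (sg.mapIso (CountD9.jjOneIso (S ⊓ V)))) hSV
    have h₂ : KP M s (DerivedCategory.Q.obj (sg.obj Sc.X₂)) := DMV.prop_single_biprod hcl _ _ m
      (hcl.iso (DerivedCategory.Q.mapIso (sg.mapIso (CountD9.jjOneIso S))) hS)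
      (hcl.iso (DerivedCategory.Q.mapIso (sg.mapIso (CountD9.jjOneIso V))) hV)
    exact hcl.iso (DerivedCategory.Q.mapIso (sg.mapIso (CountD9.jjOneIso (S ⊔ V)).symm))
      (hcl.ext₃ (fun A hA => kp_shift hA 1) _ (DerivedCategory.triangleOfSES_distinguished hSc) h₁ h₂)
  have aux : ∀ A : X.Opens, IsAffineOpen A → ∀ (S : (A : Scheme.{u}).Opens), IsCompact (S : Set (A : Scheme.{u})) →
      ∀ V : (A : Scheme.{u}).affineOpens, P (A.ι ''ᵁ (S ⊓ V.1)) := fun A hA S hS => by
    haveI : IsAffine (A : Scheme.{u}) := hA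
    refine compact_open_induction_on (P := fun S : (A : Scheme.{u}).Opens =>
      ∀ V : (A : Scheme.{u}).affineOpens, P (A.ι ''ᵁ (S ⊓ V.1))) S hS (fun V => ?_) fun S hS U hg V => ?_
    · refine haff _ (IsAffineOpen.image_of_isOpenImmersion ?_ A.ι)
      rw [bot_inf_eq]
      exact isAffineOpen_bot _
    · have e1 : A.ι ''ᵁ ((S ⊔ U.1) ⊓ V.1) = A.ι ''ᵁ (S ⊓ V.1) ⊔ A.ι ''ᵁ (U.1 ⊓ V.1) := by
        rw [inf_sup_right]
        exact TopologicalSpace.Opens.ext (Set.image_union _ _ _)
      have e2 : A.ι ''ᵁ (S ⊓ (U.1 ⊓ V.1)) = A.ι ''ᵁ (S ⊓ V.1) ⊓ A.ι ''ᵁ (U.1 ⊓ V.1) := by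
        rw [show S ⊓ (U.1 ⊓ V.1) = (S ⊓ V.1) ⊓ (U.1 ⊓ V.1) from
          le_antisymm (le_inf (le_inf inf_le_left (inf_le_right.trans inf_le_right)) inf_le_right)
            (le_inf (inf_le_left.trans inf_le_left) inf_le_right)]
        exact TopologicalSpace.Opens.ext (Set.image_inter A.ι.isOpenEmbedding.injective)
      rw [e1]
      refine glue _ _ (hg V) (haff _ ((U.2.inf V.2).image_of_isOpenImmersion A.ι)) ?_
      rw [← e2]
      exact hg ⟨U.1 ⊓ V.1, U.2.inf V.2⟩
  refine compact_open_induction_on (P := P) W hW (haff _ (isAffineOpen_bot X))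
    fun S hS V hg => glue S V.1 hg (haff _ V.2) ?_
  haveI : IsAffine (V.1 : Scheme.{u}) := V.2
  haveI := DGen9.quasiCompact_ι (W := V.1) V.2.isCompact
  have h := aux V.1 V.2 (V.1.ι ⁻¹ᵁ S) (Scheme.Hom.isCompact_preimage _ (U := S) hS) ⟨⊤, isAffineOpen_top _⟩
  rwa [inf_top_eq, Scheme.Hom.image_preimage_eq_opensRange_inf, Scheme.Opens.opensRange_ι, inf_comm] at h

/-- Every map from `O_X[-m]` to an object off `X_s` is killed. -/
theorem killed_structure (hM : PicF.IsInvertible M) (m : ℤ) {E : DCoh.D X} (hE : Off M s E)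
    (f : (DerivedCategory.singleFunctor X.Modules m).obj (Coh.structureModule X) ⟶ E) : Killed M s _ f := by
  haveI : IsIso ((DMV.ε ⊤).app (Coh.structureModule X)) := by
    haveI : Epi ((DMV.ε ⊤).app (Coh.structureModule X)) := by
      refine Preadditive.epi_of_isZero_cokernel _ ?_
      rw [IsZero.iff_id_eq_zero]
      refine Scheme.Modules.hom_ext _ _ fun O => ?_
      ext y
      exact @Subsingleton.elim _ (DMV.subsingleton_sections_of_isZero
        (DMV.restrict_cokernel_ε ⊤ (Coh.structureModule X)) (le_top : O ≤ ⊤)) _ _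
    exact isIso_of_mono_of_epi _
  let e0 : (DQC.gen X).obj ⊤ ≅ Coh.structureModule X :=
    CountD9.jjOneIso ⊤ ≪≫ asIso ((DMV.ε ⊤).app (Coh.structureModule X))
  let e := ((DerivedCategory.singleFunctorIsoCompQ X.Modules m).app _).symm ≪≫
    (DerivedCategory.singleFunctor X.Modules m).mapIso e0
  let z := (shiftFunctorZero (DCoh.D X) ℤ).app (DerivedCategory.Q.obj ((HomologicalComplex.single X.Modules (ComplexShape.up ℤ) m).obj ((DQC.gen X).obj ⊤)))
  have h := (kp_gen (s := s) hM (W := ⊤) isCompact_univ m 0 E hE (z.hom ≫ e.hom ≫ f)).pre M s (e.inv ≫ z.inv)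
  simpa using h

end Groth.Agent.AmpleNZ9
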