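import Groth.Agent.Lib.AmpleNZ9.Killed
import Groth.Agent.Lib.DQBd9.Main

/-! Some twist of a non-zero object by an ample module has cohomology. -/

set_option autoImplicit false
set_option linter.style.haveILetI false
set_option linter.unusedSectionVars false
set_option backward.isDefEq.respectTransparency false
set_option backward.isDefEq.respectTransparency.types false
set_option maxHeartbeats 800000

universe u

open CategoryTheory CategoryTheory.Limits AlgebraicGeometry Pretriangulated Opposite ZeroObject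

attribute [local instance] HasDerivedCategory.standard

namespace Groth.Agent.AmpleNZ9

attribute [local instance] DBC9.hasRpush

open Groth.Agent.M2 (tsec IsGenerator res)

variable {X : Scheme.{u}}

section Derived

variable {A : Type (u + 1)} [Category.{u} A] [Abelian A]
variable (F G H : A ⥤ A) [F.Additive] [G.Additive] [H.Additive] [PreservesFiniteLimits F]
  [PreservesFiniteColimits F] [PreservesFiniteLimits G] [PreservesFiniteColimits G]
  [PreservesFiniteLimits H] [PreservesFiniteColimits H]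

/-- Composites of exact functors on derived categories. -/
noncomputable def derivedComp (e : F ⋙ G ≅ H) :
    F.mapDerivedCategory ⋙ G.mapDerivedCategory ≅ H.mapDerivedCategory :=
  letI : Localization.Lifting DerivedCategory.Q (HomologicalComplex.quasiIso A (ComplexShape.up ℤ))
      (H.mapHomologicalComplex (ComplexShape.up ℤ) ⋙ DerivedCategory.Q) H.mapDerivedCategory :=
    ⟨H.mapDerivedCategoryFactors⟩
  Localization.liftNatIso DerivedCategory.Q (HomologicalComplex.quasiIso A (ComplexShape.up ℤ))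
    (DerivedCategory.Q ⋙ F.mapDerivedCategory ⋙ G.mapDerivedCategory)
    (H.mapHomologicalComplex (ComplexShape.up ℤ) ⋙ DerivedCategory.Q) _ _
    ((Functor.associator _ _ _).symm ≪≫ Functor.isoWhiskerRight F.mapDerivedCategoryFactors _ ≪≫
      Functor.associator _ _ _ ≪≫
      Functor.isoWhiskerLeft _ G.mapDerivedCategoryFactors ≪≫ (Functor.associator _ _ _).symm ≪≫
      Functor.isoWhiskerRight (NatIso.ofComponents (fun K => HomologicalComplex.Hom.isoOfComponents
        (fun i => e.app (K.X i)) fun i j _ => (e.hom.naturality (K.d i j)).symm) fun {K L} φ => by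
          ext i; exact e.hom.naturality (φ.f i)) _)

/-- A functor isomorphic to the identity, on derived categories. -/
noncomputable def derivedId (e : H ≅ 𝟭 A) : H.mapDerivedCategory ≅ 𝟭 (DerivedCategory A) :=
  Localization.liftNatIso DerivedCategory.Q (HomologicalComplex.quasiIso A (ComplexShape.up ℤ))
    (DerivedCategory.Q ⋙ H.mapDerivedCategory)
    (DerivedCategory.Q : CochainComplex A ℤ ⥤ DerivedCategory A) _ _
    (H.mapDerivedCategoryFactors ≪≫
      Functor.isoWhiskerRight (NatIso.ofComponents (fun K => HomologicalComplex.Hom.isoOfComponents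
        (fun i => e.app (K.X i)) fun i j _ => (e.hom.naturality (K.d i j)).symm) fun {K L} φ => by
          ext i; exact e.hom.naturality (φ.f i)) _ ≪≫
      (DerivedCategory.Q : CochainComplex A ℤ ⥤ DerivedCategory A).leftUnitor)

end Derived

theorem tensorRightMod_map (M : X.Modules) {F G : X.Modules} (φ : F ⟶ G) :
    (DCoh.tensorRightMod M).map φ = M2.tensorMap φ (𝟙 M) :=
  VB17.whisker_eq_tensorMap φ M

/-- Tensoring with `O` does nothing. -/
noncomputable def twUnit : DCoh.tensorRightMod (Coh.structureModule X) ≅ 𝟭 X.Modules :=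
  NatIso.ofComponents (fun F => M2.tensorRUnit F) fun {F G} φ => by
    rw [tensorRightMod_map]
    refine M2.tensorMod_hom_ext fun U a b => ?_
    change (M2.tensorRUnit G).hom.app U ((M2.tensorMap φ (𝟙 _)).app U (tsec F (Coh.structureModule X) a b)) =
      φ.app U ((M2.tensorRUnit F).hom.app U (tsec F (Coh.structureModule X) a b))
    rw [M2.tensorMap_tsec, VA11.tensorRUnit_tsec, VA11.tensorRUnit_tsec, Scheme.Modules.Hom.app_smul]
    rfl

/-- Tensoring twice. -/
noncomputable def twAssoc {A B C : X.Modules} (e : C ≅ CohB1.tensorMod A B) :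
    DCoh.tensorRightMod A ⋙ DCoh.tensorRightMod B ≅ DCoh.tensorRightMod C :=
  NatIso.ofComponents (fun F => M2.tensorAssoc F A B ≪≫ M2.tensorIso (Iso.refl F) e.symm) fun {F G} φ => by
    change (DCoh.tensorRightMod B).map ((DCoh.tensorRightMod A).map φ) ≫
      (M2.tensorAssoc G A B).hom ≫ M2.tensorMap (𝟙 G) e.inv =
      ((M2.tensorAssoc F A B).hom ≫ M2.tensorMap (𝟙 F) e.inv) ≫ (DCoh.tensorRightMod C).map φ
    rw [tensorRightMod_map, tensorRightMod_map, tensorRightMod_map]
    refine VA11.tensor_hom_ext₃ fun U a b c => ?_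
    change (M2.tensorMap (𝟙 G) e.inv).app U ((M2.tensorAssoc G A B).hom.app U
        ((M2.tensorMap (M2.tensorMap φ (𝟙 A)) (𝟙 B)).app U (tsec _ B (tsec F A a b) c))) =
      (M2.tensorMap φ (𝟙 C)).app U ((M2.tensorMap (𝟙 F) e.inv).app U ((M2.tensorAssoc F A B).hom.app U
        (tsec _ B (tsec F A a b) c)))
    rw [M2.tensorMap_tsec, M2.tensorMap_tsec, VA11.tensorAssoc_tsec, VA11.tensorAssoc_tsec, M2.tensorMap_tsec,
      M2.tensorMap_tsec, M2.tensorMap_tsec]
    rfl

section Powers

variable {L : X.Modules} (hL : PicF.IsInvertible L) [∀ n : ℕ, DCoh.HasLTensorMod (CohB1.tensorPow L n)]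

include hL in
theorem nonempty_iterate (k : ℕ) [PreservesFiniteLimits (DCoh.tensorRightMod (CohB1.tensorPow L k))]
    (K : DCoh.D X) : ∀ n : ℕ, Nonempty (((PnKoszul9.twD (CohB1.tensorPow L k)).obj^[n]) K ≅
      (DCoh.LTensorMod (CohB1.tensorPow L (n * k))).obj K) := by
  haveI : ∀ j, PreservesFiniteLimits (DCoh.tensorRightMod (CohB1.tensorPow L j)) := fun j =>
    PnKoszul9.preservesFiniteLimits_tensorRightMod _ (Amp.isInvertible_tensorPow hL j)
  suffices h : ∀ n : ℕ, Nonempty (((PnKoszul9.twD (CohB1.tensorPow L k)).obj^[n]) K ≅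
      (PnKoszul9.twD (CohB1.tensorPow L (n * k))).obj K) by
    intro n
    obtain ⟨i⟩ := h n
    obtain ⟨j⟩ := PnKoszul9.nonempty_ltensorMod_twD (CohB1.tensorPow L (n * k))
    exact ⟨i ≪≫ (j.app K).symm⟩
  intro n
  induction n with
  | zero =>
    rw [Nat.zero_mul]
    haveI : PreservesFiniteLimits (DCoh.tensorRightMod (Coh.structureModule X)) :=
      PnKoszul9.preservesFiniteLimits_tensorRightMod _ (PicLoc.isInvertible_structureModule X)
    exact ⟨((derivedId (DCoh.tensorRightMod (Coh.structureModule X)) twUnit).app K).symm⟩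
  | succ n ih =>
    obtain ⟨i⟩ := ih
    rw [Nat.succ_mul, Function.iterate_succ_apply']
    exact ⟨(PnKoszul9.twD (CohB1.tensorPow L k)).mapIso i ≪≫
      (derivedComp (DCoh.tensorRightMod (CohB1.tensorPow L (n * k))) (DCoh.tensorRightMod (CohB1.tensorPow L k))
        (DCoh.tensorRightMod (CohB1.tensorPow L (n * k + k)))
        (twAssoc (M2.tensorPowAdd L (n * k) k))).app K⟩

end Powers

/-- The global generator is the structure module. -/
noncomputable def topIso (Y : Scheme.{u}) : (DQC.gen Y).obj ⊤ ≅ Coh.structureModule Y :=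
  haveI : IsIso ((DMV.ε ⊤).app (Coh.structureModule Y)) := by
    haveI : Epi ((DMV.ε ⊤).app (Coh.structureModule Y)) := by
      refine Preadditive.epi_of_isZero_cokernel _ ?_
      rw [IsZero.iff_id_eq_zero]
      refine Scheme.Modules.hom_ext _ _ fun O => ?_
      ext y
      exact @Subsingleton.elim _ (DMV.subsingleton_sections_of_isZero
        (DMV.restrict_cokernel_ε ⊤ (Coh.structureModule Y)) (le_top : O ≤ ⊤)) _ _
    exact isIso_of_mono_of_epi _
  CountD9.jjOneIso ⊤ ≪≫ asIso ((DMV.ε ⊤).app (Coh.structureModule Y))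

/-- Restriction of `O[-m]`. -/
noncomputable def resTopIso (U : X.Opens) (m : ℤ) :
    (DPerf.resD U.ι).obj ((DerivedCategory.singleFunctor X.Modules m).obj ((DQC.gen X).obj ⊤)) ≅
      (DerivedCategory.singleFunctor (U : Scheme.{u}).Modules m).obj ((DQC.gen (U : Scheme.{u})).obj ⊤) :=
  ((Scheme.Modules.restrictFunctor U.ι).mapDerivedCategorySingleFunctor m).app _ ≪≫
    (DerivedCategory.singleFunctor (U : Scheme.{u}).Modules m).mapIso
      ((Scheme.Modules.restrictFunctor U.ι).mapIso (topIso X) ≪≫ Scheme.Modules.restrictUnitIso U.ι ≪≫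
        (topIso (U : Scheme.{u})).symm)

theorem bijective_tmul_gen {R : Type u} [CommRing R] (P : Type u) {Q : Type u} [AddCommGroup P] [Module R P]
    [AddCommGroup Q] [Module R Q] {g : Q} (hg : Function.Bijective fun r : R => r • g) :
    Function.Bijective fun p : P => TensorProduct.tmul R p g := by
  let e : R ≃ₗ[R] Q := LinearEquiv.ofBijective (LinearMap.toSpanSingleton R Q g) hg
  let ψ := (TensorProduct.rid R P).symm.trans (TensorProduct.congr (LinearEquiv.refl R P) e)
  have : (fun p : P => TensorProduct.tmul R p g) = ψ := funext fun p => by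
    simp [ψ, e]
  rw [this]
  exact ψ.bijective

section Loc

variable (M : X.Modules) (s : Coh.structureModule X ⟶ M)

theorem isIso_restrict_mulR (hM : PicF.IsInvertible M) (F : X.Modules) :
    IsIso ((Scheme.Modules.restrictFunctor (CohB1.genLocus M s).ι).map (CurveCM.mulR F (Amp.gval s))) := by
  refine (M1.isIso_iff_stalk _).2 fun z => ?_
  let x : X := (CohB1.genLocus M s).ι z
  have hg : Amp.Gen (Amp.gm M x (U := ⊤) trivial (Amp.gval s)) := (Amp.mem_genLocus_iff hM s).1 z.2
  have key : Function.Bijective ((M1.stalkAb x).map (CurveCM.mulR F (Amp.gval s))) := by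
    have hb := (M2.stalkEquiv F M x).symm.bijective.comp
      (bijective_tmul_gen (R := X.presheaf.stalk x) (F.presheaf.stalk x : Type u) hg)
    refine (iff_of_eq (congrArg Function.Bijective (funext fun p => ?_))).1 hb
    obtain ⟨V, hV, y, rfl⟩ := TopCat.Presheaf.exists_germ_eq F.presheaf p
    refine ((M2.stalkEquiv F M x).symm_apply_eq).2 ?_
    have h1 : (M1.stalkAb x).map (CurveCM.mulR F (Amp.gval s)) (F.presheaf.germ V x hV y) =
        (CohB1.tensorMod F M).presheaf.germ V x hV ((CurveCM.mulR F (Amp.gval s)).app V y) :=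
      TopCat.Presheaf.stalkFunctor_map_germ_apply V x hV _ y
    rw [h1, CurveCM.mulR_app, M2.stalkEquiv_tsec]
    exact congrArg (TensorProduct.tmul (X.presheaf.stalk x) (F.presheaf.germ V x hV y))
      (M1.germ_mres M (le_top : V ≤ ⊤) hV (Amp.gval s)).symm
  haveI : IsIso ((M1.stalkAb x).map (CurveCM.mulR F (Amp.gval s))) := (ConcreteCategory.isIso_iff_bijective _).2 key
  exact (ConcreteCategory.isIso_iff_bijective _).1
    ((NatIso.isIso_map_iff (Scheme.Modules.restrictStalkNatIso (CohB1.genLocus M s).ι z) _).2 this)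

variable [PreservesFiniteLimits (DCoh.tensorRightMod M)]

theorem isIso_resD_η (hM : PicF.IsInvertible M) (C : DCoh.D X) :
    IsIso ((DPerf.resD (CohB1.genLocus M s).ι).map ((η M s).app C)) := by
  rw [DerivedCategory.isIso_iff]
  intro i
  have hnat := TwistBC9.hdMapIso (Scheme.Modules.restrictFunctor (CohB1.genLocus M s).ι) i
  refine (NatIso.isIso_map_iff hnat ((η M s).app C)).2 ?_
  let R := Scheme.Modules.restrictFunctor (CohB1.genLocus M s).ι
  haveI := isIso_restrict_mulR M s hM (DCoh.HD C i)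
  change IsIso (R.map ((DerivedCategory.homologyFunctor X.Modules i).map ((η M s).app C)))
  have h := η_hdTw M s C i
  rw [← Iso.eq_comp_inv] at h
  rw [h, Functor.map_comp]
  infer_instance

/-- A class surviving on `X_s` lifts after twisting. -/
theorem exists_lift {A E' : DCoh.D X} (hM : PicF.IsInvertible M) (g : A ⟶ E') (hg : Killed M s A g) :
    ∀ (K C : DCoh.D X) (u : K ⟶ C) (d : C ⟶ E') (w : E' ⟶ K⟦(1 : ℤ)⟧), Triangle.mk u d w ∈ distTriang _ →
      ∀ e : A ⟶ C, g = e ≫ d → (DPerf.resD (CohB1.genLocus M s).ι).map e ≠ 0 →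
      ∃ (n : ℕ) (y : A ⟶ ((PnKoszul9.twD M).obj^[n]) K), y ≠ 0 := by
  induction hg with
  | zero =>
    intro K C u d w hT e he hne
    obtain ⟨y, hy⟩ := Triangle.coyoneda_exact₂ _ hT e he.symm
    refine ⟨0, y, fun h0 => hne ?_⟩
    change e = y ≫ u at hy
    rw [hy, h0, zero_comp, Functor.map_zero]
  | step g _ ih =>
    intro K C u d w hT e he hne
    obtain ⟨n, y, hy⟩ := ih ((PnKoszul9.twD M).obj K) ((PnKoszul9.twD M).obj C) ((PnKoszul9.twD M).map u)
      ((PnKoszul9.twD M).map d) _ ((PnKoszul9.twD M).map_distinguished _ hT) (e ≫ (η M s).app C)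
      (by rw [he, Category.assoc, Category.assoc]; exact congrArg (e ≫ ·) ((η M s).naturality d))
      (by
        haveI := isIso_resD_η M s hM C
        intro h0
        rw [Functor.map_comp] at h0
        exact hne ((cancel_mono ((DPerf.resD (CohB1.genLocus M s).ι).map ((η M s).app C))).1
          (h0.trans zero_comp.symm)))
    exact ⟨n + 1, by rw [Function.iterate_succ_apply]; exact ⟨y, hy⟩⟩

end Loc

/-- The main theorem. -/
theorem cohomology_twist_nonzero (L : X.Modules) (hL : CohB1.IsAmple L) [DCoh.HasRΓ X]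
    [∀ n : ℕ, DCoh.HasLTensorMod (CohB1.tensorPow L n)]
    (K : DCoh.D X) (hK : DCoh.IsQCohD K) (hK0 : ¬ IsZero K) :
    ∃ (n : ℕ) (p : ℤ), ¬ IsZero ((DerivedCategory.homologyFunctor AddCommGrpCat.{u} p).obj
      ((DCoh.RΓ X).obj ((DCoh.LTensorMod (CohB1.tensorPow L n)).obj K))) := by
  haveI := Amp.quasiSeparatedSpace_of_isAmple hL
  obtain ⟨hLi, hXc, hcov⟩ := hL
  haveI := hXc
  obtain ⟨m, hm⟩ : ∃ m, ¬ IsZero (DCoh.HD K m) := not_forall.1 fun h => hK0 (DMV.isZero_of_hd h)
  obtain ⟨x, hx⟩ : ∃ x : X, ¬ Subsingleton ((DCoh.HD K m).presheaf.stalk x : Type u) :=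
    not_forall.1 fun h => hm (DPerf.isZero_of_stalks h)
  obtain ⟨b, s, hxs, hU⟩ := hcov x
  let M := CohB1.tensorPow L (b + 1)
  let U := CohB1.genLocus M s
  have hM : PicF.IsInvertible M := Amp.isInvertible_tensorPow hLi (b + 1)
  haveI := PnKoszul9.preservesFiniteLimits_tensorRightMod M hM
  haveI : IsAffine (U : Scheme.{u}) := hU
  have hRK : DCoh.IsQCohD ((DPerf.resD U.ι).obj K) := DQC.isQCohD_resD U.ι hK
  have hnz : ¬ IsZero (DCoh.HD ((DPerf.resD U.ι).obj K) m) := fun h0 => hx (by
    have h1 : IsZero ((DCoh.HD K m).restrict U.ι) := h0.of_iso (DPerf.hdResIso U.ι K m).symm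
    exact AddCommGrpCat.subsingleton_of_isZero
      ((RHom.stalkZero_restrict_iff U.ι ⟨x, hxs⟩ _).1 ((M1.stalkAb _).map_isZero h1)))
  haveI : Coh.IsQCoh (DCoh.HD ((DPerf.resD U.ι).obj K) m) := hRK m
  obtain ⟨t, ht⟩ : ∃ t : Γ(DCoh.HD ((DPerf.resD U.ι).obj K) m, ⊤), t ≠ 0 :=
    not_forall.1 fun h => hnz (LocCohZQ.isZero_of_sections_top _ h)
  obtain ⟨x₀, hx₀⟩ := (DQC.bijective_θ ((DPerf.resD U.ι).obj K) hRK (isAffineOpen_top (U : Scheme.{u})) m).2
    ((DQC.genHom ⊤ _).symm t)
  let adj := DGen9.adjR U.ι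
  let A := (DerivedCategory.singleFunctor X.Modules m).obj ((DQC.gen X).obj ⊤)
  let x₁ : (DPerf.resD U.ι).obj A ⟶ (DPerf.resD U.ι).obj K := (resTopIso U m).hom ≫ x₀
  have hx₁ : x₁ ≠ 0 := fun h0 => ht (by
    have hx0 : x₀ = 0 := (cancel_epi (resTopIso U m).hom).1 (h0.trans comp_zero.symm)
    rw [hx0] at hx₀
    have h2 : (DQC.genHom ⊤ (DCoh.HD ((DPerf.resD U.ι).obj K) m)).symm t = 0 := by
      rw [← hx₀]; simp [SiteRlim.θ]
    have h3 := DQC.genHom_comp ⊤ ((DQC.genHom ⊤ (DCoh.HD ((DPerf.resD U.ι).obj K) m)).symm t)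
      (0 : DCoh.HD ((DPerf.resD U.ι).obj K) m ⟶ DCoh.HD ((DPerf.resD U.ι).obj K) m)
    rw [comp_zero, ← h2, Equiv.apply_symm_apply] at h3
    exact h3)
  let C := (DCoh.Rpush U.ι).obj ((DPerf.resD U.ι).obj K)
  let u : K ⟶ C := adj.unit.app K
  let e : A ⟶ C := adj.homEquiv A _ x₁
  obtain ⟨E', d, w, hT⟩ := distinguished_cocone_triangle u
  have hC : DCoh.IsQCohD C := DGen9.isQCohD_rpushι hU.isCompact hRK
  have hE : Off M s E' := by
    refine ⟨DGen9.isQCohD_obj₂ _ (rot_of_distTriang _ hT) hC (DMV.isQCohD_shift K hK 1), fun i => ?_⟩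
    haveI : IsIso ((DPerf.resD U.ι).map u) := DGen9.isIso_resD_unit U.ι K
    exact ((DerivedCategory.homologyFunctor (U : Scheme.{u}).Modules i).map_isZero
      (DGen9.isZero_resD_cone U.ι hT)).of_iso (DPerf.hdResIso U.ι E' i).symm
  have hA : Killed M s A (e ≫ d) := by
    let σ := (DerivedCategory.singleFunctorIsoCompQ X.Modules m).app ((DQC.gen X).obj ⊤)
    let z := (shiftFunctorZero (DCoh.D X) ℤ).app (DerivedCategory.Q.obj
      ((HomologicalComplex.single X.Modules (ComplexShape.up ℤ) m).obj ((DQC.gen X).obj ⊤)))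
    have h := (kp_gen (s := s) hM (W := ⊤) isCompact_univ m 0 E' hE (z.hom ≫ σ.inv ≫ e ≫ d)).pre M s (σ.hom ≫ z.inv)
    simpa using h
  have hne : (DPerf.resD U.ι).map e ≠ 0 := fun h0 => hx₁ (by
    have h1 : (adj.homEquiv A _).symm e = x₁ := Equiv.symm_apply_apply _ _
    rw [← h1, Adjunction.homEquiv_counit, h0, zero_comp])
  obtain ⟨n, y, hy⟩ := exists_lift M s hM _ hA K C u d w hT e rfl hne
  obtain ⟨ι⟩ := nonempty_iterate hLi (b + 1) K n
  refine ⟨n * (b + 1), m, fun h0 => hy ?_⟩
  have := (DQBd9.subsingleton_hom_of_rGamma _ m h0).elim (y ≫ ι.hom) 0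
  exact (cancel_mono ι.hom).1 (this.trans zero_comp.symm)

end Groth.Agent.AmpleNZ9
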