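import Groth.Agent.Lib.TwistBC9.Hd
import Mathlib.Algebra.Homology.DerivedCategory.ExactFunctor

/-! Natural transformations of exact functors on derived categories. -/

set_option autoImplicit false
set_option linter.style.haveILetI false
set_option linter.unusedSectionVars false
set_option backward.isDefEq.respectTransparency false
set_option backward.isDefEq.respectTransparency.types false

universe v u v₁ u₁

open CategoryTheory CategoryTheory.Limits

attribute [local instance] HasDerivedCategory.standard

namespace Groth.Agent.AmpleNZ9

variable {A : Type u} [Category.{v} A] [Abelian A]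

local notation "Cx" => ComplexShape.up ℤ
local notation "W" => HomologicalComplex.quasiIso A (ComplexShape.up ℤ)

variable (T : A ⥤ A) [T.Additive] [PreservesFiniteLimits T] [PreservesFiniteColimits T] (a : 𝟭 A ⟶ T)

/-- The termwise map `K → T K`. -/
noncomputable def unitCx (K : CochainComplex A ℤ) : K ⟶ (T.mapHomologicalComplex Cx).obj K where
  f i := a.app (K.X i)
  comm' i j _ := (a.naturality (K.d i j)).symm

/-- The unit on the derived category. -/
noncomputable def unitD : 𝟭 (DerivedCategory A) ⟶ T.mapDerivedCategory :=
  letI : Localization.Lifting DerivedCategory.Q W (T.mapHomologicalComplex Cx ⋙ DerivedCategory.Q) T.mapDerivedCategory :=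
    ⟨T.mapDerivedCategoryFactors⟩
  letI : Localization.Lifting DerivedCategory.Q W DerivedCategory.Q (𝟭 (DerivedCategory A)) := ⟨Functor.rightUnitor _⟩
  Localization.liftNatTrans DerivedCategory.Q W DerivedCategory.Q (T.mapHomologicalComplex Cx ⋙ DerivedCategory.Q) _ _
    { app := fun K => DerivedCategory.Q.map (unitCx T a K)
      naturality := fun K L f => by
        rw [← Functor.map_comp]
        refine (congrArg DerivedCategory.Q.map ?_).trans (DerivedCategory.Q.map_comp _ _)
        ext i
        exact a.naturality (f.f i) }

theorem unitD_app (K : CochainComplex A ℤ) :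
    (unitD T a).app (DerivedCategory.Q.obj K) = DerivedCategory.Q.map (unitCx T a K) ≫ T.mapDerivedCategoryFactors.inv.app K := by
  simp [unitD, Localization.liftNatTrans_app, Localization.Lifting.iso]

theorem map_id_hom (S : ShortComplex A) (h : S.LeftHomologyData) :
    (h.map (𝟭 A)).homologyIso.hom = h.homologyIso.hom := by
  rw [← cancel_epi (S.homologyπ)]
  refine ((h.map (𝟭 A)).homologyπ_comp_homologyIso_hom).trans (Eq.trans ?_ h.homologyπ_comp_homologyIso_hom.symm)
  have e : (h.map (𝟭 A)).cyclesIso.hom = h.cyclesIso.hom := by
    rw [← cancel_mono h.i]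
    exact ((h.map (𝟭 A)).cyclesIso_hom_comp_i).trans h.cyclesIso_hom_comp_i.symm
  rw [e]; rfl
theorem mapHomologyIso_id (S : ShortComplex A) : S.mapHomologyIso (𝟭 A) = Iso.refl _ := by
  rw [S.homologyData.left.mapHomologyIso_eq (𝟭 A)]
  apply Iso.ext
  show _ ≫ _ = _
  rw [map_id_hom]
  exact S.homologyData.left.homologyIso.hom_inv_id

/-- The unit on cohomology. -/
theorem unitD_homology (i : ℤ) (E : DerivedCategory A) :
    (DerivedCategory.homologyFunctor A i).map ((unitD T a).app E) ≫ (TwistBC9.hdMapIso T i).hom.app E =
      a.app ((DerivedCategory.homologyFunctor A i).obj E) := by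
  suffices hQ : ∀ K : CochainComplex A ℤ,
      (DerivedCategory.homologyFunctor A i).map ((unitD T a).app (DerivedCategory.Q.obj K)) ≫
        (TwistBC9.hdMapIso T i).hom.app (DerivedCategory.Q.obj K) = a.app ((DerivedCategory.homologyFunctor A i).obj (DerivedCategory.Q.obj K)) by
    let e := DerivedCategory.Q.objObjPreimageIso E
    let H := DerivedCategory.homologyFunctor A i
    have h1 := hQ (DerivedCategory.Q.objPreimage E)
    rw [← cancel_epi (H.map e.hom)]
    have n1 : H.map e.hom ≫ H.map ((unitD T a).app E) =
        H.map ((unitD T a).app _) ≫ H.map (T.mapDerivedCategory.map e.hom) := by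
      rw [← H.map_comp, ← H.map_comp]
      exact congrArg H.map ((unitD T a).naturality e.hom)
    have n2 := (TwistBC9.hdMapIso T i).hom.naturality e.hom
    have n3 := a.naturality (H.map e.hom)
    dsimp at n2 n3
    rw [reassoc_of% n1, n2, reassoc_of% h1]
    exact n3.symm
  intro K
  have hm : HomologicalComplex.homologyMap (unitCx T a K) i ≫ ((K.sc i).mapHomologyIso T).hom =
      a.app (K.homology i) := by
    have h := NatTrans.app_homology a (K.sc i)
    have hid : ((K.sc i).mapHomologyIso (𝟭 A)).inv = 𝟙 _ := by
      have e : (K.sc i).mapHomologyIso (𝟭 A) = Iso.refl _ := mapHomologyIso_id _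
      rw [e]; rfl
    rw [hid] at h
    exact (h.trans (Category.id_comp _)).symm
  rw [unitD_app, Functor.map_comp, Category.assoc]
  simp only [TwistBC9.hdMapIso, Localization.liftNatIso_hom]
  simp [Localization.liftNatTrans_app, Localization.Lifting.iso, TwistBC9.hMapIso, ← Functor.map_comp_assoc]
  rw [reassoc_of% hm]
  have hn := a.naturality ((DerivedCategory.homologyFunctorFactors A i).inv.app K)
  change _ ≫ a.app _ = a.app _ ≫ T.map _ at hn
  change _ ≫ a.app ((HomologicalComplex.homologyFunctor A Cx i).obj K) ≫ _ = _
  rw [← hn]
  simp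

end Groth.Agent.AmpleNZ9
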